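import Mathlib
import Groth.Agent.Lib.Helper24.FibHom.Props
import Groth.Agent.Lib.Helper3.ReducedDescent

/-!
# Helper24 — S14352: unramified iff geometric fibres are reduced and discrete
-/

set_option autoImplicit false
set_option linter.style.haveILetI false
universe u

open CategoryTheory AlgebraicGeometry Limits TopologicalSpace

namespace Groth.Agent.Lib.Helper24.UnramGeom

variable {K : Type u} [Field K]

/-- an unramified scheme locally of finite type over a field is reduced and discrete -/
theorem reduced_discrete_of_formallyUnramified {Z : Scheme.{u}}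
    (g : Z ⟶ Spec (CommRingCat.of K)) [LocallyOfFiniteType g] [FormallyUnramified g] :
    IsReduced Z ∧ DiscreteTopology ↥Z := by
  have key : ∀ (U : Z.Opens) (hU : IsAffineOpen U),
      _root_.IsReduced Γ(Z, U) ∧ IsArtinianRing Γ(Z, U) := by
    intro U hU
    let φ : CommRingCat.of K ⟶ Γ(Z, U) := Spec.preimage (hU.fromSpec ≫ g)
    have hφ : Spec.map φ = hU.fromSpec ≫ g := Spec.map_preimage _
    have h1 : FormallyUnramified (Spec.map φ) := by
      rw [hφ]
      exact MorphismProperty.comp_mem @FormallyUnramified _ _ inferInstance inferInstance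
    have h2 : LocallyOfFiniteType (Spec.map φ) := by rw [hφ]; infer_instance
    have h1' : φ.hom.FormallyUnramified :=
      (HasRingHomProperty.Spec_iff (P := @FormallyUnramified)).1 h1
    have h2' : φ.hom.FiniteType := (HasRingHomProperty.Spec_iff (P := @LocallyOfFiniteType)).1 h2
    algebraize [φ.hom]
    haveI : Algebra.EssFiniteType K Γ(Z, U) := inferInstance
    haveI : Module.Finite K Γ(Z, U) := Algebra.FormallyUnramified.finite_of_free K Γ(Z, U)
    exact ⟨Algebra.FormallyUnramified.isReduced_of_field K Γ(Z, U), IsArtinianRing.of_finite K _⟩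
  refine ⟨?_, ?_⟩
  · refine Groth.Agent.Lib.Helper3.isReduced_of_affine_opens_cover fun w => ?_
    obtain ⟨U, hU, hwU, -⟩ := exists_isAffineOpen_mem_and_subset (x := w) (U := ⊤) trivial
    exact ⟨U, hU, hwU, (key U hU).1⟩
  · haveI : IsLocallyArtinian Z := ⟨fun U => (key U.1 U.2).2⟩
    infer_instance

set_option backward.isDefEq.respectTransparency.types false in
/-- a reduced discrete scheme locally of finite type over an algebraically closed field is
unramified -/
theorem formallyUnramified_of_discrete_reduced [IsAlgClosed K] {Z : Scheme.{u}}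
    (g : Z ⟶ Spec (CommRingCat.of K)) [LocallyOfFiniteType g] [IsReduced Z]
    [DiscreteTopology ↥Z] : FormallyUnramified g := by
  let U : Z → Z.Opens := fun z => ⟨{z}, isOpen_discrete _⟩
  refine IsZariskiLocalAtSource.of_iSup_eq_top (P := @FormallyUnramified) U ?_ (fun z => ?_)
  · rw [eq_top_iff]
    intro z _
    exact Opens.mem_iSup.2 ⟨z, rfl⟩
  · let Y : Scheme.{u} := (U z).toScheme
    haveI : Subsingleton ↥Y := inferInstanceAs (Subsingleton ({z} : Set Z))
    haveI : Nonempty ↥Y := ⟨⟨z, rfl⟩⟩
    haveI : IsReduced Y := isReduced_of_isOpenImmersion (U z).ι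
    haveI : IsIntegral Y := (isIntegral_iff_irreducibleSpace_and_isReduced _).mpr
      ⟨⟨inferInstance⟩, inferInstance⟩
    letI := (isField_of_isIntegral_of_subsingleton Y).toField
    let h : Y ⟶ Spec (CommRingCat.of K) := (U z).ι ≫ g
    change FormallyUnramified h
    let φ : CommRingCat.of K ⟶ Γ(Y, ⊤) := Spec.preimage (Y.isoSpec.inv ≫ h)
    have hφ : Spec.map φ = Y.isoSpec.inv ≫ h := Spec.map_preimage _
    have h2 : LocallyOfFiniteType (Spec.map φ) := by rw [hφ]; infer_instance
    have h2' : φ.hom.FiniteType := (HasRingHomProperty.Spec_iff (P := @LocallyOfFiniteType)).1 h2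
    have hsurj : Function.Surjective φ.hom := by
      letI : Algebra K Γ(Y, ⊤) := φ.hom.toAlgebra
      haveI : Algebra.FiniteType K Γ(Y, ⊤) := h2'
      haveI : Module.Finite K Γ(Y, ⊤) := finite_of_finite_type_of_isJacobsonRing K Γ(Y, ⊤)
      haveI : Algebra.IsIntegral K Γ(Y, ⊤) := Algebra.IsIntegral.of_finite K _
      exact (IsAlgClosed.algebraMap_bijective_of_isIntegral (k := K) (K := Γ(Y, ⊤))).2
    have h1' : φ.hom.FormallyUnramified := by
      letI : Algebra K Γ(Y, ⊤) := φ.hom.toAlgebra
      change Algebra.FormallyUnramified K Γ(Y, ⊤)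
      exact Algebra.FormallyUnramified.of_surjective (Algebra.ofId K Γ(Y, ⊤)) hsurj
    have h1 : FormallyUnramified (Spec.map φ) :=
      (HasRingHomProperty.Spec_iff (P := @FormallyUnramified)).2 h1'
    rw [hφ] at h1
    exact (MorphismProperty.cancel_left_of_respectsIso @FormallyUnramified Y.isoSpec.inv h).1 h1

set_option backward.isDefEq.respectTransparency.types false in
/-- **S14352** -/
theorem main14352 {X S : Scheme.{u}} (f : X ⟶ S) [LocallyOfFinitePresentation f] :
    FormallyUnramified f ↔
      ∀ (K : Type u) [Field K] [IsAlgClosed K] (s : Spec (CommRingCat.of K) ⟶ S),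
        IsReduced (pullback f s) ∧ DiscreteTopology ↥(pullback f s) := by
  constructor
  · intro hf K _ _ s
    haveI := hf
    haveI : FormallyUnramified (pullback.snd f s) :=
      MorphismProperty.pullback_snd (P := @FormallyUnramified) f s hf
    exact reduced_discrete_of_formallyUnramified (pullback.snd f s)
  · intro H
    have hpt : ∀ x : X, ∃ W : X.Opens, x ∈ W ∧ FormallyUnramified (W.ι ≫ f) := by
      intro x
      let y := f x
      let g := f.fiberToSpecResidueField y
      let L := AlgebraicClosure (S.residueField y)
      let σ : Spec (CommRingCat.of L) ⟶ Spec (S.residueField y) :=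
        Spec.map (CommRingCat.ofHom (algebraMap (S.residueField y) L))
      obtain ⟨hred, hdisc⟩ := H L (σ ≫ S.fromSpecResidueField y)
      let e : pullback g σ ≅ pullback f (σ ≫ S.fromSpecResidueField y) :=
        pullbackLeftPullbackSndIso f (S.fromSpecResidueField y) σ
      haveI : IsReduced (pullback g σ) := isReduced_of_isOpenImmersion e.hom
      haveI : DiscreteTopology ↥(pullback g σ) :=
        (Scheme.homeoOfIso e).symm.discreteTopology
      haveI : LocallyOfFiniteType g :=
        inferInstanceAs (LocallyOfFiniteType (pullback.snd f (S.fromSpecResidueField y)))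
      have hK : FormallyUnramified (pullback.snd g σ) :=
        formallyUnramified_of_discrete_reduced (pullback.snd g σ)
      haveI : Nonempty ↥(Spec (CommRingCat.of L)) := inferInstanceAs (Nonempty (PrimeSpectrum L))
      haveI : Surjective σ := by
        constructor
        intro w
        obtain ⟨v⟩ := ‹Nonempty ↥(Spec (CommRingCat.of L))›
        exact ⟨v, Subsingleton.elim (α := PrimeSpectrum (S.residueField y)) _ _⟩
      haveI : Flat σ := inferInstance
      haveI : QuasiCompact σ := inferInstance
      have hg : FormallyUnramified g :=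
        MorphismProperty.of_isPullback_of_descendsAlong (P := @FormallyUnramified)
          (Q := @Surjective ⊓ @Flat ⊓ @QuasiCompact) (IsPullback.of_hasPullback g σ).flip
          ⟨⟨inferInstance, inferInstance⟩, inferInstance⟩ hK
      exact Groth.Agent.Lib.Helper24.FibHom.fc_unramified f x y rfl hg
    choose W hW1 hW2 using hpt
    refine IsZariskiLocalAtSource.of_iSup_eq_top (P := @FormallyUnramified) W ?_ hW2
    rw [eq_top_iff]
    intro z _
    exact Opens.mem_iSup.mpr ⟨z, hW1 z⟩

end Groth.Agent.Lib.Helper24.UnramGeom
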